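import Cfsg.Agent.Lib.Spor.Cos.J3Cent.Data

/-! Data and checks for the involution centraliser of the third Janko group. -/

set_option autoImplicit false
set_option maxRecDepth 100000
set_option maxHeartbeats 4000000

namespace Cfsg.Agent.Spor.Cos.J3Cent

/-- The listed permutations. -/
def permOfIdx (i : ℕ) : Equiv.Perm (Fin 5) := ((permW.getD i []).map fun o => Equiv.swap o.1 o.2).prod

theorem perm_even : ∀ i : Fin 60, Equiv.Perm.sign (permOfIdx i) = 1 := by decide +kernel

theorem perm_inj : ∀ i j : Fin 60, (∀ x : Fin 5, permOfIdx i x = permOfIdx j x) → i = j := by decide +kernel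

theorem perm_mul : ∀ i j : Fin 60, ∀ x : Fin 5, permOfIdx i (permOfIdx j x) = permOfIdx (hL.prod i j) x := by
  decide +kernel

end Cfsg.Agent.Spor.Cos.J3Cent
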