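import Cfsg.Agent.Lib.Spor.Cos.J3Cent.Data
import Cfsg.Agent.Lib.Spor.Cos.J3Cent.ClassData
import Cfsg.Agent.Lib.Spor.Cos.J3.ActAData

/-! Data and checks for the involution centraliser of the third Janko group. -/

set_option autoImplicit false
set_option maxRecDepth 100000
set_option maxHeartbeats 4000000

namespace Cfsg.Agent.Spor.Cos.J3Cent

theorem q_chk : qL.chk J3.actA [0, 5, 1] = true := by decide +kernel

theorem h_chk : hL.chk J3.actA [0, 5, 1] = true := by decide +kernel

theorem cls_chk : ∀ j < 255, chkConj J3.actA [0, 5, 1] 0 [1] 16 clsU clsK 255 j = true := by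
  refine of_blocks (size := 256) (b := 1) (by decide) (by decide) fun j hj => ?_
  interval_cases j
  decide +kernel

/-- The fixed points are listed. -/
noncomputable def chkFixed (p : ℕ) : Bool := !(Nat.beq (J3.actA.go [1] p) p) || fixL.any (Nat.beq p)

theorem fix_chk : ∀ p < 6156, chkFixed p = true := by
  refine of_blocks (size := 512) (b := 13) (by decide) (by decide) fun j hj => ?_
  interval_cases j <;> decide +kernel

/-- The words commute with the involution. -/
noncomputable def commOk (L : ListGrp) : Bool :=
  L.W.all fun w => Act.lettersOk J3.actA.n [w ++ [1], [1] ++ w] && agree J3.actA [0, 5, 1] (w ++ [1]) ([1] ++ w)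

theorem q_comm : commOk qL = true := by decide +kernel

theorem h_comm : commOk hL = true := by decide +kernel

theorem s_comm : commOk sL = true := by decide +kernel

/-- The second list normalises the first. -/
noncomputable def normOk : Bool :=
  (List.range 60).all fun i => (List.range 32).all fun j => force (conjQ.at (i * 32 + j)) fun k =>
    Nat.blt k 32 && agree J3.actA [0, 5, 1] (hL.W.getD i [] ++ qL.W.getD j []) (qL.W.getD k [] ++ hL.W.getD i [])

theorem norm_chk : normOk = true := by decide +kernel

theorem disjoint_chk : ((hL.W.map fun w => imKey J3.actA w [0, 5, 1]).all fun k =>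
    Nat.beq k (imKey J3.actA [] [0, 5, 1]) || !((qL.W.map fun w => imKey J3.actA w [0, 5, 1]).any (Nat.beq k))) = true := by
  decide +kernel

/-- The involutions of the list are conjugate to the given one. -/
noncomputable def conjOk : Bool :=
  (List.range 128).all fun i => !(Nat.beq (sL.prod i i) 0) || Nat.beq i 0 ||
    ((fun v : List ℕ => Act.lettersOk J3.actA.n [v, sL.W.getD i []] &&
      agree J3.actA [0, 5, 1] v (sL.W.getD i [])) (conjW.getD i [] ++ ([1] ++ (conjW.getD i []).reverse)))

theorem conj_chk : conjOk = true := by decide +kernel

theorem extra_chk : chkExtra qL.prod 1 = true := by decide +kernel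

end Cfsg.Agent.Spor.Cos.J3Cent
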