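import Cfsg.Agent.Lib.Spor.Cos.J3Cent.Data
import Cfsg.Agent.Lib.Spor.Cos.J3.ActAData

/-! Data and checks for the involution centraliser of the third Janko group. -/

set_option autoImplicit false
set_option maxRecDepth 100000
set_option maxHeartbeats 4000000

namespace Cfsg.Agent.Spor.Cos.J3Cent

theorem s_chk : sL.chk J3.actA [0, 5, 1] = true := by decide +kernel

end Cfsg.Agent.Spor.Cos.J3Cent
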