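import Cfsg.Agent.Lib.Spor.Cos.J3.Order
import Cfsg.Agent.Lib.Spor.Cos.J3Cent.Checks
import Cfsg.Agent.Lib.Spor.Cos.J3Cent.Sylow
import Cfsg.Agent.Lib.Spor.Cos.J3Cent.Alt

/-!
The involutions of the third Janko group and their centralisers.
-/

set_option autoImplicit false
set_option maxRecDepth 100000
set_option maxHeartbeats 1000000

namespace Cfsg.Agent.Spor.Cos.J3Cent

variable {J : Type*} [Group J] [Finite J]

/-- The generators carried to an isomorphic group. -/
noncomputable def gJ (e : J3.P ≃* J) (s : ℕ) : J := e (J3.g s)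

/-- The action carried to an isomorphic group. -/
noncomputable def piJ (e : J3.P ≃* J) : J →* Equiv.Perm (Fin J3.actA.N) := J3.piA.comp e.symm.toMonoidHom

theorem homJ (e : J3.P ≃* J) : J3.actA.Hom (gJ e) (piJ e) :=
  ⟨J3.homA.inv, fun s => by simpa [gJ, piJ] using J3.homA.gen s⟩

theorem detJ (e : J3.P ≃* J) (y : J) (h : ∀ q : Fin J3.actA.N, (q : ℕ) ∈ [0, 5, 1] → piJ e y q = q) : y = 1 := by
  have := J3.det (e.symm y) h
  simpa using congrArg e this

theorem pts_lt : ∀ p ∈ [0, 5, 1], p < J3.actA.N := by decide +kernel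

/-- The involution. -/
noncomputable def tJ (e : J3.P ≃* J) : J := ev (gJ e) [1]

theorem sq_gJ (e : J3.P ≃* J) (s : ℕ) : gJ e s * gJ e s = 1 := by rw [gJ, ← map_mul, J3.g_sq, map_one]

theorem tJ_order (e : J3.P ≃* J) : orderOf (tJ e) = 2 := by
  refine orderOf_eq_prime (hp := ⟨Nat.prime_two⟩) ?_ fun h => ?_
  · show (gJ e 1 * 1) ^ 2 = 1
    rw [mul_one, sq, sq_gJ]
  · have h1 : J3.actA.go [1] 5 ≠ 5 ∨ J3.actA.go [1] 1 ≠ 1 ∨ J3.actA.go [1] 0 ≠ 0 := by decide +kernel
    have key : ∀ p ∈ [0, 5, 1], J3.actA.go [1] p = p := fun p hp => by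
      have := (homJ e).apply_ev [1] (show ∀ s ∈ [1], s < J3.actA.n by decide) ⟨p, pts_lt p hp⟩
      rw [show ev (gJ e) [1] = tJ e from rfl, h, map_one, Equiv.Perm.one_apply] at this
      exact this.symm
    rcases h1 with h1 | h1 | h1 <;> exact h1 (key _ (by decide))

theorem ok_q (e : J3.P ≃* J) : qL.Ok (gJ e) := qL.ok_of_chk (homJ e) pts_lt (detJ e) q_chk

theorem ok_h (e : J3.P ≃* J) : hL.Ok (gJ e) := hL.ok_of_chk (homJ e) pts_lt (detJ e) h_chk

theorem ok_s (e : J3.P ≃* J) : sL.Ok (gJ e) := sL.ok_of_chk (homJ e) pts_lt (detJ e) s_chk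

theorem m_q : qL.m = 32 := rfl

theorem m_h : hL.m = 60 := rfl

theorem m_s : sL.m = 128 := rfl

/-- The centraliser. -/
abbrev CJ (e : J3.P ≃* J) : Subgroup J := Subgroup.centralizer ({tJ e} : Set J)

theorem el_mem (e : J3.P ≃* J) {L : ListGrp} (hc : commOk L = true) {i : ℕ} (hi : i < L.m) :
    L.el (gJ e) i ∈ CJ e := by
  have h := List.all_eq_true.1 hc _ (List.getElem_mem (show i < L.W.length from hi))
  simp only [Bool.and_eq_true] at h
  have h1 := h.1
  have h2 : Act.lettersOk J3.actA.n [L.W[i] ++ [1]] = true ∧ Act.lettersOk J3.actA.n [[1] ++ L.W[i]] = true := by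
    simp only [Act.lettersOk, List.all_cons, List.all_nil, Bool.and_true, Bool.and_eq_true] at h1 ⊢
    exact h1
  have := ev_eq_of_agree (homJ e) (detJ e) h2.1 h2.2 h.2
  rw [ev_append, ev_append] at this
  rw [ListGrp.el, List.getD_eq_getElem _ _ hi]
  exact Subgroup.mem_centralizer_singleton_iff.2 this

theorem grp_le (e : J3.P ≃* J) {L : ListGrp} (hc : commOk L = true) : L.grp (gJ e) ≤ CJ e :=
  (Subgroup.closure_le _).2 fun _ ⟨_, hi, he⟩ => he ▸ el_mem e hc hi

theorem card_stabJ (e : J3.P ≃* J) : Nat.card (stab (piJ e) J3.baseA) = 8160 := by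
  refine card_stab (fun p => ?_) ((Nat.card_congr e.toEquiv).symm.trans J3.card_eq)
  obtain ⟨y, hy⟩ := J3.trA p
  exact ⟨e y, by simpa [piJ] using hy⟩

theorem card_CJ (e : J3.P ≃* J) : Nat.card (CJ e) = 1920 := by
  have h := card_centralizer_le (fun s _ => sq_gJ e s) (homJ e) pts_lt (x := J3.baseA) (zw := [1])
    (by decide +kernel) (by decide +kernel) cls_chk (L := fixL) fix_chk (stab (piJ e) J3.baseA) fun y => mem_stab
  rw [card_stabJ, show fixL.length = 76 from rfl] at h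
  have h1 : 128 ∣ Nat.card (CJ e) := m_s ▸ ListGrp.card_grp (ok_s e) ▸ Subgroup.card_dvd_of_le (grp_le e s_comm)
  have h2 : 60 ∣ Nat.card (CJ e) := m_h ▸ ListGrp.card_grp (ok_h e) ▸ Subgroup.card_dvd_of_le (grp_le e h_comm)
  have h3 : 1920 ∣ Nat.card (CJ e) := (Nat.lcm_dvd h1 h2 : Nat.lcm 128 60 ∣ _)
  have hpos : 0 < Nat.card (CJ e) := Nat.card_pos
  obtain ⟨k, hk⟩ := h3
  have : Nat.card (CJ e) * 255 ≤ 76 * 8160 := h
  omega

/-- The normal subgroup of order 32. -/
noncomputable abbrev QJ (e : J3.P ≃* J) : Subgroup (CJ e) := (qL.grp (gJ e)).subgroupOf (CJ e)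

/-- The complement. -/
noncomputable abbrev HJ (e : J3.P ≃* J) : Subgroup (CJ e) := (hL.grp (gJ e)).subgroupOf (CJ e)

/-- Both with the ambient subgroup. -/
noncomputable def eQ (e : J3.P ≃* J) : QJ e ≃* qL.grp (gJ e) := Subgroup.subgroupOfEquivOfLe (grp_le e q_comm)

/-- Both with the ambient subgroup. -/
noncomputable def eH (e : J3.P ≃* J) : HJ e ≃* hL.grp (gJ e) := Subgroup.subgroupOfEquivOfLe (grp_le e h_comm)

theorem card_QJ (e : J3.P ≃* J) : Nat.card (QJ e) = 32 :=
  (Nat.card_congr (eQ e).toEquiv).trans ((ListGrp.card_grp (ok_q e)).trans m_q)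

theorem card_HJ (e : J3.P ≃* J) : Nat.card (HJ e) = 60 :=
  (Nat.card_congr (eH e).toEquiv).trans ((ListGrp.card_grp (ok_h e)).trans m_h)

theorem disjointJ (e : J3.P ≃* J) : Disjoint (QJ e) (HJ e) := by
  rw [Subgroup.disjoint_def]
  intro x hq hh
  obtain ⟨i, hi, ei⟩ := (ListGrp.mem_grp (ok_h e)).1 (Subgroup.mem_subgroupOf.1 hh)
  obtain ⟨j, hj, ej⟩ := (ListGrp.mem_grp (ok_q e)).1 (Subgroup.mem_subgroupOf.1 hq)
  have hi' : i < hL.W.length := hi
  have hj' : j < qL.W.length := hj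
  have hl : ∀ {L : ListGrp}, L.chk J3.actA [0, 5, 1] = true → Act.lettersOk J3.actA.n L.W = true := fun hc => by
    simp only [ListGrp.chk, Bool.and_eq_true] at hc
    exact hc.1.1.1
  have kk : imKey J3.actA hL.W[i] [0, 5, 1] = imKey J3.actA qL.W[j] [0, 5, 1] := by
    refine imKey_congr fun p hp => ?_
    have := congrArg (fun y : J => (piJ e y ⟨p, pts_lt p hp⟩ : ℕ)) (ei.trans ej.symm)
    simp only [ListGrp.el, List.getD_eq_getElem _ _ hi', List.getD_eq_getElem _ _ hj'] at this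
    rwa [(homJ e).apply_ev _ (Act.lt_of_lettersOk (hl h_chk) (List.getElem_mem hi')),
      (homJ e).apply_ev _ (Act.lt_of_lettersOk (hl q_chk) (List.getElem_mem hj'))] at this
  have h := List.all_eq_true.1 disjoint_chk _ (List.mem_map_of_mem (List.getElem_mem hi'))
  rw [Bool.or_eq_true, Bool.not_eq_true'] at h
  rcases h with h | h
  · refine Subtype.ext (ei.symm.trans (detJ e _ fun q hq => Fin.ext ?_))
    rw [ListGrp.el, List.getD_eq_getElem _ _ hi',
      (homJ e).apply_ev _ (Act.lt_of_lettersOk (hl h_chk) (List.getElem_mem hi'))]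
    have key : ∀ p ∈ [0, 5, 1], J3.actA.go hL.W[i] p = p := by
      have e3 := Nat.eq_of_beq_eq_true h
      simp only [imKey] at e3
      have b : ∀ p ∈ [0, 5, 1], J3.actA.go hL.W[i] p < 65536 := fun p hp => by
        rw [← (homJ e).apply_ev _ (Act.lt_of_lettersOk (hl h_chk) (List.getElem_mem hi')) ⟨p, pts_lt p hp⟩]
        exact lt_of_lt_of_le (Fin.isLt _) (by decide +kernel)
      have b0 := b 0 (by decide)
      have b5 := b 5 (by decide)
      have b1 := b 1 (by decide)
      simp only [Act.go_nil] at e3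
      intro p hp
      simp only [List.mem_cons, List.not_mem_nil, or_false] at hp
      rcases hp with rfl | rfl | rfl <;> omega
    exact key _ hq
  · rw [List.any_eq_false] at h
    exact absurd (kk ▸ Nat.beq_refl _) (h _ (List.mem_map_of_mem (List.getElem_mem hj')))

theorem complJ (e : J3.P ≃* J) : Subgroup.IsComplement' (QJ e) (HJ e) :=
  Subgroup.isComplement'_of_card_mul_and_disjoint (by rw [card_QJ, card_HJ, card_CJ]) (disjointJ e)

theorem normalJ (e : J3.P ≃* J) : (QJ e).Normal := by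
  refine ⟨fun q hq c => ?_⟩
  obtain ⟨⟨a, b⟩, hab⟩ := (complJ e).2 c
  have hb : (b : CJ e) * q * (b : CJ e)⁻¹ ∈ QJ e := by
    obtain ⟨i, hi, ei⟩ := (ListGrp.mem_grp (ok_h e)).1 (Subgroup.mem_subgroupOf.1 b.2)
    obtain ⟨j, hj, ej⟩ := (ListGrp.mem_grp (ok_q e)).1 (Subgroup.mem_subgroupOf.1 hq)
    have h := norm_chk
    simp only [normOk, List.all_eq_true, List.mem_range, force_eq, Bool.and_eq_true] at h
    obtain ⟨hk, ha⟩ := h i hi j hj
    have hk' := Nat.le_of_ble_eq_true hk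
    have lok : ∀ {L : ListGrp}, L.chk J3.actA [0, 5, 1] = true → ∀ k < L.m,
        ((L.W.getD k []).all fun s => Nat.blt s J3.actA.n) = true := fun {L} hc k hkm => by
      simp only [ListGrp.chk, Bool.and_eq_true] at hc
      rw [List.getD_eq_getElem _ _ hkm]
      exact List.all_eq_true.1 hc.1.1.1 _ (List.getElem_mem _)
    have a1 := lok h_chk i hi
    have a2 := lok q_chk j hj
    have a3 := lok q_chk _ hk'
    have ev2 := ev_eq_of_agree (homJ e) (detJ e) (by simp only [Act.lettersOk, List.all_cons, List.all_nil, List.all_append, a1, a2, Bool.and_true])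
      (by simp only [Act.lettersOk, List.all_cons, List.all_nil, List.all_append, a1, a3, Bool.and_true]) ha
    rw [ev_append, ev_append] at ev2
    rw [Subgroup.mem_subgroupOf, Subgroup.coe_mul, Subgroup.coe_mul, Subgroup.coe_inv, ← ei, ← ej]
    show ev (gJ e) _ * ev (gJ e) _ * (ev (gJ e) _)⁻¹ ∈ _
    rw [ev2, mul_inv_cancel_right]
    exact (ListGrp.mem_grp (ok_q e)).2 ⟨_, hk', rfl⟩
  rw [← hab]
  show (a : CJ e) * b * q * ((a : CJ e) * b)⁻¹ ∈ QJ e
  rw [show (a : CJ e) * b * q * ((a : CJ e) * b)⁻¹ = a * (b * q * (b : CJ e)⁻¹) * (a : CJ e)⁻¹ by group]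
  exact mul_mem (mul_mem a.2 hb) (inv_mem a.2)

theorem quotientJ (e : J3.P ≃* J) :
    ∃ _ : (QJ e).Normal, Nonempty (CJ e ⧸ QJ e ≃* alternatingGroup (Fin 5)) := by
  have hn := normalJ e
  refine ⟨hn, ?_⟩
  let f : HJ e →* CJ e ⧸ QJ e := (QuotientGroup.mk' (QJ e)).comp (HJ e).subtype
  have hf : Function.Bijective f := by
    refine ((injective_iff_map_eq_one f).2 fun x hx => Subtype.ext ?_).bijective_of_nat_card_le ?_
    · exact Subgroup.disjoint_def.1 (disjointJ e) ((QuotientGroup.eq_one_iff _).1 hx) x.2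
    · have h := Subgroup.card_eq_card_quotient_mul_card_subgroup (QJ e)
      rw [card_QJ, card_CJ] at h
      rw [card_HJ]
      omega
  have hA : Nat.card (alternatingGroup (Fin 5)) = 60 := by
    rw [Nat.card_eq_fintype_card]; decide +kernel
  obtain ⟨eA⟩ := ListGrp.nonempty_mulEquiv (ok_h e)
    (f := fun i : Fin hL.m => (⟨permOfIdx i, Equiv.Perm.mem_alternatingGroup.2 (perm_even i)⟩ : alternatingGroup (Fin 5)))
    (fun i j h => perm_inj i j fun x => by rw [show permOfIdx i = permOfIdx j from congrArg Subtype.val h])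
    (hA.le.trans m_h.ge) (fun i j => Subtype.ext (Equiv.ext fun x => perm_mul i j x))
  exact ⟨(MulEquiv.ofBijective f hf).symm.trans ((eH e).trans eA)⟩

theorem structureJ (e : J3.P ≃* J) : Cfsg.IsExtraspecial 2 (QJ e) ∧
    ∀ E : Subgroup (QJ e), Cfsg.IsElementaryAbelian 2 E → Nat.card E ≤ 2 ^ 2 := by
  let f : Fin 32 → QJ e := fun i => (eQ e).symm (qL.fin (gJ e) i)
  refine extraspecial_of_table f ((eQ e).symm.bijective.comp (ListGrp.fin_bijective (ok_q e))) ?_ qL.prod
    (ok_q e).lt (fun i j => ?_) (z := 1) (by decide) extra_chk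
  · exact (congrArg (eQ e).symm (ListGrp.fin_zero (ok_q e))).trans (map_one _)
  · show (eQ e).symm _ * (eQ e).symm _ = (eQ e).symm _
    rw [← map_mul]
    exact congrArg _ (ListGrp.fin_mul (ok_q e) i j)

theorem conj_involutions (e : J3.P ≃* J) : ∀ x y : J, orderOf x = 2 → orderOf y = 2 → IsConj x y := by
  haveI : Fact (Nat.Prime 2) := ⟨Nat.prime_two⟩
  suffices key : ∀ x : J, orderOf x = 2 → IsConj (tJ e) x from fun x y hx hy => (key x hx).symm.trans (key y hy)
  intro x hx
  have hJ : Nat.card J = 50232960 := (Nat.card_congr e.toEquiv).symm.trans J3.card_eq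
  have hS : Nat.card (sL.grp (gJ e)) = 2 ^ (Nat.card J).factorization 2 := by
    rw [ListGrp.card_grp (ok_s e), m_s, hJ]
    have h7 : (50232960 : ℕ).factorization 2 = 7 := by
      rw [show (50232960 : ℕ) = 2 ^ 7 * 392445 by norm_num, Nat.factorization_mul (by norm_num) (by norm_num),
        Finsupp.add_apply, Nat.Prime.factorization_pow Nat.prime_two, Finsupp.single_eq_same,
        Nat.factorization_eq_zero_of_not_dvd (show ¬ 2 ∣ 392445 by norm_num)]
    rw [h7]
    norm_num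
  let S : Sylow 2 J := Sylow.ofCard _ hS
  have hp : IsPGroup 2 (Subgroup.zpowers x) :=
    IsPGroup.of_card (n := 1) (by rw [Nat.card_zpowers, hx, pow_one])
  obtain ⟨R, hR⟩ := hp.exists_le_sylow
  obtain ⟨c, hc⟩ := MulAction.exists_smul_eq J R S
  have hm : c * x * c⁻¹ ∈ sL.grp (gJ e) := by
    have : MulAut.conj c x ∈ (c • R : Sylow 2 J) :=
      ⟨x, hR (Subgroup.mem_zpowers x), rfl⟩
    rw [hc] at this
    exact this
  obtain ⟨i, hi, ei⟩ := (ListGrp.mem_grp (ok_s e)).1 hm
  have hx2 : x * x = 1 := by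
    have := pow_orderOf_eq_one x
    rwa [hx, sq] at this
  have hsq : sL.el (gJ e) i * sL.el (gJ e) i = 1 := by
    rw [ei, show c * x * c⁻¹ * (c * x * c⁻¹) = c * (x * x) * c⁻¹ by group, hx2]
    group
  have hi0 : sL.prod i i = 0 := (ok_s e).inj _ ((ok_s e).lt i hi i hi) 0 (ok_s e).pos
    (((ok_s e).mul i hi i hi).symm.trans (hsq.trans (ok_s e).zero.symm))
  have hne : i ≠ 0 := by
    rintro rfl
    rw [(ok_s e).zero] at ei
    rw [show x = 1 by
      have : c⁻¹ * 1 * c = x := by rw [ei]; group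
      simpa using this.symm, orderOf_one] at hx
    exact absurd hx (by decide)
  have h := List.all_eq_true.1 conj_chk i (List.mem_range.2 hi)
  simp only [hi0, Nat.beq_refl, Bool.not_true, Bool.false_or, Bool.or_eq_true, Bool.and_eq_true] at h
  rcases h with h | ⟨hl, ha⟩
  · exact absurd (Nat.eq_of_beq_eq_true h) hne
  · have hl' : Act.lettersOk J3.actA.n [conjW.getD i [] ++ ([1] ++ (conjW.getD i []).reverse)] = true ∧
        Act.lettersOk J3.actA.n [sL.W.getD i []] = true := by simpa [Act.lettersOk] using hl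
    have hv := ev_eq_of_agree (homJ e) (detJ e) hl'.1 hl'.2 ha
    have hw : ∀ s ∈ conjW.getD i [], s < J3.actA.n := fun s hs =>
      Act.lt_of_lettersOk hl'.1 (List.mem_singleton_self _) s (List.mem_append_left _ hs)
    rw [ev_append, ev_append, ev_reverse (fun s _ => sq_gJ e s) _ hw, ← mul_assoc] at hv
    refine isConj_iff.2 ⟨c⁻¹ * ev (gJ e) (conjW.getD i []), ?_⟩
    calc c⁻¹ * ev (gJ e) (conjW.getD i []) * tJ e * (c⁻¹ * ev (gJ e) (conjW.getD i []))⁻¹
        = c⁻¹ * (ev (gJ e) (conjW.getD i []) * tJ e * (ev (gJ e) (conjW.getD i []))⁻¹) * c := by group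
      _ = c⁻¹ * sL.el (gJ e) i * c := by rw [show ev (gJ e) (conjW.getD i []) * tJ e *
            (ev (gJ e) (conjW.getD i []))⁻¹ = sL.el (gJ e) i from hv]
      _ = x := by rw [ei]; group

end Cfsg.Agent.Spor.Cos.J3Cent
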